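import Mathlib
import Cfsg.Agent.H221.CD.ToDat
import Cfsg.Agent.H364.SpElim
import Cfsg.Agent.H364.DE.Cross

/-!
# S3677, row `PΩ⁺(2n, q)`, `n ≥ 6` even: cross characteristic (helper221)
-/

set_option autoImplicit false
set_option linter.unusedSectionVars false

namespace Cfsg.Agent.H221.CD

open Subgroup Cfsg Cfsg.Agent.OrdDiv Cfsg.Agent.H364 Cfsg.Agent.H902 Cfsg.Agent.H902.Names

universe u

variable {G : Type u} [Group G] [Finite G] {n p f d m : ℕ} {K : Subgroup G} [K.Normal] {S : Subgroup (G ⧸ K)}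

theorem cross (h : SD G n p f d m K S) (h6 : 6 ≤ n) {N : Grp}
    {X : Art.Sh} {v g : ℕ} (hN : IsLie N X v g) (hr : OrdDiv.Real N S) (hX : Art.Real X v g (Nat.card S))
    (hX2 : X ≠ .L 2) (hvp : v ≠ p) : False := by
  have hsim := h.simple
  have hidx := h.out
  have h0 : 0 < Nat.card (Cfsg.Out S) := by
    have : Finite (MulAut S) := Finite.of_injective (fun f : MulAut S => (f : S → S)) DFunLike.coe_injective
    exact Nat.card_pos
  obtain ⟨c, hc1, hc2, -⟩ := OutLie.card_out h.nonab hN hr hX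
  have hle : Nat.card (Cfsg.Out S) ≤ Art.dd X (v ^ g) * Art.NN X * g := SpOut.card_out_le h.nonab hN hr hX
  refine DE.cross h.dat h6 hX hX2 hvp ((Nat.le_of_dvd h0 hidx).trans hle) ?_
  calc S.index ∣ Nat.card (Cfsg.Out S) := hidx
      _ = c * g := hc1
      _ ∣ 24 * Art.dd X (v ^ g) * g := Nat.mul_dvd_mul_right hc2 g

end Cfsg.Agent.H221.CD
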