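import Mathlib
import Cfsg.Agent.H60.DE.Data
import Cfsg.Agent.H429.CS.KLat

/-!
# S3677, row `PΩ⁺(2n, q)`, `n` even: the data of the section (helper221)
-/

set_option autoImplicit false

namespace Cfsg.Agent.H221.CD

open Subgroup Cfsg Cfsg.Agent.H364 Cfsg.Agent.H902.Lte Cfsg.Agent.H902.Art Cfsg.Agent.H60.DE

universe u

/-- the kernel `K` and the simple normal subgroup `S` of `G/K` -/
structure SD (G : Type u) [Group G] [Finite G] (n p f d m : ℕ) (K : Subgroup G) [K.Normal] (S : Subgroup (G ⧸ K)) :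
    Prop where
  hn : 4 ≤ n
  hev : n % 2 = 0
  hY : Real (.D n) p f (Nat.card G)
  num : Num n (p ^ f) d m
  normal : S.Normal
  simple : IsSimpleGroup S
  nonab : ¬ ∀ a b : S, a * b = b * a
  cent : centralizer (S : Set (G ⧸ K)) = ⊥
  card : Nat.card K * (S.index * Nat.card S) = Nat.card G
  out : S.index ∣ Nat.card (Cfsg.Out S)
  solv : Group.IsSolvable K
  /-- the chosen primes are perfect -/
  pp : ∀ r : ℕ, r.Prime → orderOf ((p ^ f : ℕ) : ZMod r) = d → H429.CS.PP G r m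
  noEdge : ∀ r : ℕ, r.Prime → orderOf ((p ^ f : ℕ) : ZMod r) = d → NoEdge G r p
  not_dvd : ∀ r : ℕ, r.Prime → orderOf ((p ^ f : ℕ) : ZMod r) = d → ¬ r ∣ Nat.card K
  ex : ∃ r : ℕ, r.Prime ∧ orderOf ((p ^ f : ℕ) : ZMod r) = d ∧ r ∣ Nat.card S
  /-- the class sizes -/
  min : ∀ x : G, x ≠ 1 → (p ^ f) ^ (2 * (n - 1)) + 1 ≤ (centralizer ({x} : Set G)).index
  /-- `O_t(G) = 1` -/
  core : ∀ t : ℕ, t.Prime → t ≠ p → ¬ (p ^ f = 2 ∧ t = 3) → ¬ (p ^ f = 3 ∧ t = 2) →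
    ∀ N : Subgroup G, N.Normal → IsPGroup t N → N = ⊥
  kap : ∀ t : ℕ, t.Prime → t ∣ Nat.card K → t = p ∨ t ∣ m ∨ (p ^ f = 2 ∧ t = 3) ∨ (p ^ f = 3 ∧ t = 2)
  cong : ∀ r : ℕ, r.Prime → orderOf ((p ^ f : ℕ) : ZMod r) = d →
    r ^ (Nat.card G).factorization r ∣ p ^ (Nat.card K).factorization p - 1

end Cfsg.Agent.H221.CD
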