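import Cfsg.Agent.H431.CS.Asm
import Cfsg.Agent.H431.CS.Exc
import Cfsg.Agent.H326.CS.Spor
import Cfsg.Agent.H426.CS.PslTwo
import Cfsg.Agent.H881.CS.RowPslThree
import Cfsg.Agent.H402.CS.RowPsl
import Cfsg.Agent.H402.CS.RowPsu
import Cfsg.Agent.H812.CS.PsuThree
import Cfsg.Agent.H72.CS4.Row
import Cfsg.Agent.H370.AAM.RowFin
import Cfsg.Agent.H286.CS.PSub
import Cfsg.Agent.H237.PL.Odd
import Cfsg.Agent.H977.CS.SepBC
import Cfsg.Agent.H277.CS.SepL34
import Cfsg.Agent.S0822
import Cfsg.Agent.S3724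
import Cfsg.Agent.S3675
import Cfsg.Agent.S0000

/-!
# S3677: all rows (helper431)
-/

set_option autoImplicit false

namespace Cfsg.Agent.H221.CD.Fin3677

open Cfsg Cfsg.Agent.H431.CS

universe u v

/-- row `PSU_n(q)`, `n ≥ 4` -/
theorem row_psu_all {G : Type u} [Group G] [Finite G] {F : Type} [Field F] [Fintype F] {n q : ℕ}
    (hF : Fintype.card F = q ^ 2) (hn : 4 ≤ n) (hG : Same G (PSU n F q)) : IsSimpleGroup G := by
  by_cases h42 : n = 4 ∧ q = 2
  · obtain ⟨rfl, rfl⟩ := h42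
    have h3 : Fintype.card (ZMod 3) = 3 := ZMod.card 3
    have := Fact.mk Nat.prime_three
    obtain ⟨e⟩ := S0822.result (F := F) (K := ZMod 3) (by rw [hF]; norm_num) h3
    exact H72.CS4.row_psp_four (F := ZMod 3) (by rw [h3]) (hG.congr e)
  · exact H402.CS.RowPsu.row_psu hF hn h42 hG

/-- row `POmega^+`, `n` odd -/
theorem row_plus_odd {G : Type u} [Group G] [Finite G] {F : Type} [Field F] [Fintype F] {n : ℕ} (hn : 5 ≤ n)
    (hodd : Odd n) (h : Same G (POmega F (quadFormPlus n F))) : IsSimpleGroup G := by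
  refine H370.AAM.row_plus_odd_of hn hodd (fun p f hp hf hF t ht _ ho => ?_) h
  rcases ho with ho | ho
  · exact H237.PL.lat_plus_odd hp hf hF hn hodd ht ho
  · exact (H286.CS.lat_plus_sub hp hf hF (by omega) ht ho (Or.inr (Or.inl hodd))).toLatW

theorem rows
    (hpsp : ∀ (G : Type u) [Group G] [Finite G] (F : Type) [Field F] [Fintype F] (n : ℕ), 3 ≤ n →
      Same G (PSp n F) → IsSimpleGroup G)
    (hodd : ∀ (G : Type u) [Group G] [Finite G] (F : Type) [Field F] [Fintype F] (n : ℕ), 3 ≤ n →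
      Odd (Fintype.card F) → Same G (POmega F (quadFormOdd n F)) → IsSimpleGroup G)
    (hplus : ∀ (G : Type u) [Group G] [Finite G] (F : Type) [Field F] [Fintype F] (n : ℕ), 4 ≤ n → Even n →
      Same G (POmega F (quadFormPlus n F)) → IsSimpleGroup G) : Rows.{u, v} where
  same_order G _ _ _ M _ _ _ h := S3724.result h
  alt n G _ _ h1 h2 := S3675.result n h1 h2
  psl_two G _ _ F _ _ h4 h := H426.CS.row_psl_two h4 h
  psl_three G _ _ F _ _ h := H881.CS.row_psl_three h
  psl G _ _ F _ _ n hn h := H402.CS.RowPsl.row_psl hn h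
  psu_three G _ _ F _ _ q hF hq h := H812.CS.row_psu_three hF hq h
  psu G _ _ F _ _ n q hF hn h := row_psu_all hF hn h
  psp_four G _ _ F _ _ h3 h := H72.CS4.row_psp_four h3 h
  psp := hpsp
  odd := hodd
  minus G _ _ F _ _ n a b hn hab h := H370.AAM.row_minus hn hab h
  plus G _ _ F _ _ n hn h := by
    rcases Nat.even_or_odd n with he | ho
    · exact hplus G F n hn he h
    · exact row_plus_odd (by obtain ⟨k, hk⟩ := ho; omega) ho h
  exc G _ _ S _ _ _ hna hS h := row_exceptional hna hS h fun ht =>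
    H326.CS.tits OrdDiv.table (fun X _ _ _ => S0000.result) h.card h.cs ht
  spor G _ _ S _ _ _ hS h :=
    H326.CS.sporadic OrdDiv.table (fun X _ _ _ => S0000.result) h.card h.cs (fun X _ _ _ => S0000.result) hS
  sepBC F _ _ n hn ho := H977.SepBC.sep_BC hn ho
  sepL F _ _ hF := H277.CS.sep_L34 hF

end Cfsg.Agent.H221.CD.Fin3677
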