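import Mathlib
import Cfsg.Agent.H221.CD.ToDat
import Cfsg.Agent.H902.Names
import Cfsg.Agent.H494.CS.Spor
import Cfsg.Agent.H370.DE.Spor
import Cfsg.Agent.H370.DE.LTwo
import Cfsg.Agent.H812.CS.NotAlt

/-!
# S3677, row `PΩ⁺(2n, q)`, `n ≥ 6` even: the order of the simple factor (helper221)
-/

set_option autoImplicit false
set_option linter.unusedSectionVars false

namespace Cfsg.Agent.H221.CD

open Subgroup Cfsg Cfsg.Agent.OrdDiv Cfsg.Agent.H364 Cfsg.Agent.H902 Cfsg.Agent.H902.Names

universe u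

variable {G : Type u} [Group G] [Finite G] {n p f d m : ℕ} {K : Subgroup G} [K.Normal] {S : Subgroup (G ⧸ K)}

theorem final_of (h : SD G n p f d m K S) (hn : 6 ≤ n) (hk : IsKnownSimple' S)
    (hsame : ∀ {N : Grp} {X : Art.Sh} {g : ℕ}, IsLie N X p g → OrdDiv.Real N S → Art.Real X p g (Nat.card S) →
      Nat.card S = Nat.card G)
    (hcross : ∀ {N : Grp} {X : Art.Sh} {v g : ℕ}, IsLie N X v g → OrdDiv.Real N S → Art.Real X v g (Nat.card S) →
      X ≠ .L 2 → v ≠ p → False) : Nat.card S = Nat.card G := by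
  have hsim := h.simple
  have hD := h.dat
  have hcs : ∀ r : ℕ, r.Prime → orderOf ((p ^ f : ℕ) : ZMod r) = d → ∀ y : S, orderOf y = r →
      Nat.card (Subgroup.centralizer ({y} : Set S)) ∣ m := fun r hr ho y hy => h.cs hr ho hy
  have h0 : 0 < Nat.card (Cfsg.Out S) := by
    have : Finite (MulAut S) := Finite.of_injective (fun f : MulAut S => (f : S → S)) DFunLike.coe_injective
    exact Nat.card_pos
  cases Names.exists_nam table hk h.nonab with
  | alt k hk h1 hc =>
    obtain ⟨e⟩ := h1
    exact (H812.NA.not_alt hD hn hk e (h.out.trans (H370.AAM.out_alt h.nonab hk e).2) hcs).elim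
  | spor x hx h1 hc =>
    have h2 : S.index ≤ 2 := (Nat.le_of_dvd h0 h.out).trans (H494.CS.out_le h.nonab hx h1)
    exact (H370.DE.not_spor hD hn h2 (List.mem_map.2 ⟨x, hx, hc.symm⟩)).elim
  | lie N X v g hN h1 hX =>
    by_cases hvp : v = p
    · subst hvp
      exact hsame hN h1 hX
    · by_cases hX2 : X = .L 2
      · subst hX2
        cases hN with
        | psl n v g =>
          obtain ⟨E, _, _, hE, ⟨e⟩⟩ := h1
          have hv := hX.hp
          have hg := hX.hf
          have h3 := H370.AAM.out_psl (S := S) h.nonab hv hg hE le_rfl (fun _ => hX.ok.2 rfl) e rfl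
          rw [if_pos rfl, one_mul] at h3
          exact (H370.DE.not_psl_two hD hn hE hv e (h3 ▸ h.out) hcs).elim
      · exact (hcross hN h1 hX hX2 hvp).elim

end Cfsg.Agent.H221.CD
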