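import Mathlib
import Cfsg.Agent.H60.DE.Data

/-!
# S3677, row `PΩ⁺(2n, q)`, `n` even: the numbers (helper221)
-/

set_option autoImplicit false

namespace Cfsg.Agent.H221.CD

open Cfsg.Agent.H60.DE

theorem pow_mod_four_one {q n : ℕ} (h : q % 4 = 1) : q ^ n % 4 = 1 := by
  rw [Nat.pow_mod, h, one_pow]; rfl

theorem sq_mod_four {q : ℕ} (h : q % 2 = 1) : q ^ 2 % 4 = 1 := by
  rw [Nat.pow_mod]
  have h1 : q % 4 = 1 ∨ q % 4 = 3 := by omega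
  rcases h1 with h1 | h1 <;> rw [h1]

theorem pow_even_mod_four {q n : ℕ} (h : q % 2 = 1) (hn : n % 2 = 0) : q ^ n % 4 = 1 := by
  obtain ⟨k, rfl⟩ : ∃ k, n = 2 * k := ⟨n / 2, by omega⟩
  rw [pow_mul]
  exact pow_mod_four_one (sq_mod_four h)

theorem pow_odd_mod_four {q n : ℕ} (h : q % 4 = 3) (hn : n % 2 = 1) : q ^ n % 4 = 3 := by
  obtain ⟨k, rfl⟩ : ∃ k, n = 2 * k + 1 := ⟨n / 2, by omega⟩
  rw [pow_succ, Nat.mul_mod, pow_even_mod_four (by omega) (by omega), h]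

theorem gcd_odd {q n : ℕ} (h : q % 2 = 1) (hn : n % 2 = 0) : Nat.gcd 4 (q ^ n - 1) = 4 := by
  apply Nat.gcd_eq_left
  have := pow_even_mod_four h hn
  omega

theorem gcd_even {q n : ℕ} (h : q % 2 = 0) (hq : 2 ≤ q) (hn : 1 ≤ n) : Nat.gcd 4 (q ^ n - 1) = 1 := by
  have h1 : q ^ n % 2 = 0 := by
    rw [Nat.pow_mod, h, zero_pow (by omega)]; rfl
  have h2 : 1 ≤ q ^ n := Nat.one_le_pow _ _ (by omega)
  have h3 : Nat.Coprime 2 (q ^ n - 1) := by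
    rw [Nat.coprime_two_left]
    exact Nat.odd_iff.2 (by omega)
  exact Nat.Coprime.pow_left 2 h3

/-- the two lattices -/
theorem exists_num {n q : ℕ} (hn : 4 ≤ n) (hev : n % 2 = 0) (hq : 2 ≤ q) (hq2 : q % 2 = 0 → q = 2 ∨ 4 ≤ q) :
    ∃ d m, Num n q d m ∧
      ((d = 2 * (n - 1) ∧ q % 4 ≠ 3 ∧ m = (q ^ (n - 1) + 1) * (q + 1) / Nat.gcd 4 (q ^ n - 1)) ∨
        (d = n - 1 ∧ (q % 4 = 3 ∨ q = 2) ∧ m = (q ^ (n - 1) - 1) * (q - 1) / Nat.gcd 4 (q ^ n - 1))) := by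
  have hdiv : (q % 4 ≠ 3 → Nat.gcd 4 (q ^ n - 1) ∣ (q ^ (n - 1) + 1) * (q + 1)) ∧
      ((q % 4 = 3 ∨ q = 2) → Nat.gcd 4 (q ^ n - 1) ∣ (q ^ (n - 1) - 1) * (q - 1)) := by
    rcases Nat.mod_two_eq_zero_or_one q with h | h
    · rw [gcd_even h hq (by omega)]
      exact ⟨fun _ => one_dvd _, fun _ => one_dvd _⟩
    · rw [gcd_odd h hev]
      have h1 : q ^ (n - 1) % 2 = 1 := by rw [Nat.pow_mod, h, one_pow]; rfl
      refine ⟨fun _ => ?_, fun _ => ?_⟩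
      · exact Nat.mul_dvd_mul (show 2 ∣ _ by omega) (show 2 ∣ _ by omega)
      · exact Nat.mul_dvd_mul (show 2 ∣ _ by omega) (show 2 ∣ _ by omega)
  by_cases h3 : q % 4 = 3 ∨ q = 2
  · exact ⟨n - 1, _, Or.inr ⟨rfl, Nat.div_mul_cancel (hdiv.2 h3), h3⟩, Or.inr ⟨rfl, h3, rfl⟩⟩
  · rw [not_or] at h3
    refine ⟨2 * (n - 1), _, Or.inl ⟨rfl, Nat.div_mul_cancel (hdiv.1 h3.1), ?_⟩, Or.inl ⟨rfl, h3.1, rfl⟩⟩
    rcases Nat.mod_two_eq_zero_or_one q with h | h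
    · exact Or.inr ⟨h, (hq2 h).resolve_left h3.2⟩
    · left; omega

theorem num_odd {n q d m : ℕ} (h : Num n q d m) (hn : 4 ≤ n) (hev : n % 2 = 0) (hq : 2 ≤ q) : m % 2 = 1 := by
  obtain ⟨-, h1, h2⟩ | ⟨-, h1, h2⟩ := h
  · rcases Nat.mod_two_eq_zero_or_one q with h | h
    · rw [gcd_even h hq (by omega), mul_one] at h1
      have h3 : q ^ (n - 1) % 2 = 0 := by rw [Nat.pow_mod, h, zero_pow (by omega)]; rfl
      rw [h1, Nat.mul_mod, show (q ^ (n - 1) + 1) % 2 = 1 by omega, show (q + 1) % 2 = 1 by omega]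
    · rw [gcd_odd h hev] at h1
      have h4 : q % 4 = 1 := by omega
      have h5 : q ^ (n - 1) % 4 = 1 := pow_mod_four_one h4
      obtain ⟨a, ha⟩ : ∃ a, q ^ (n - 1) + 1 = 2 * a := ⟨(q ^ (n - 1) + 1) / 2, by omega⟩
      obtain ⟨b, hb⟩ : ∃ b, q + 1 = 2 * b := ⟨(q + 1) / 2, by omega⟩
      rw [ha, hb] at h1
      have h6 : m = a * b := by
        apply Nat.eq_of_mul_eq_mul_right (show 0 < 4 by norm_num)
        rw [h1]; ring
      rw [h6, Nat.mul_mod, show a % 2 = 1 by omega, show b % 2 = 1 by omega]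
  · rcases h2 with h2 | rfl
    · rw [gcd_odd (by omega) hev] at h1
      have h5 : q ^ (n - 1) % 4 = 3 := pow_odd_mod_four h2 (by omega)
      obtain ⟨a, ha⟩ : ∃ a, q ^ (n - 1) - 1 = 2 * a := ⟨(q ^ (n - 1) - 1) / 2, by omega⟩
      obtain ⟨b, hb⟩ : ∃ b, q - 1 = 2 * b := ⟨(q - 1) / 2, by omega⟩
      rw [ha, hb] at h1
      have h6 : m = a * b := by
        apply Nat.eq_of_mul_eq_mul_right (show 0 < 4 by norm_num)
        rw [h1]; ring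
      rw [h6, Nat.mul_mod, show a % 2 = 1 by omega, show b % 2 = 1 by omega]
    · rw [gcd_even (by norm_num) (by norm_num) (by omega), mul_one] at h1
      have h3 : 2 ^ (n - 1) % 2 = 0 := by
        obtain ⟨k, hk⟩ : ∃ k, n - 1 = k + 1 := ⟨n - 2, by omega⟩
        rw [hk, pow_succ]; omega
      have h4 : 1 ≤ 2 ^ (n - 1) := Nat.one_le_pow _ _ (by norm_num)
      rw [h1]
      omega

/-- `3 ∤ m` for `q = 2` -/
theorem num_three {n d m : ℕ} (h : Num n 2 d m) (hn : 4 ≤ n) (hev : n % 2 = 0) : ¬ 3 ∣ m := by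
  obtain ⟨-, -, h2⟩ | ⟨-, h1, h2⟩ := h
  · omega
  · rw [gcd_even (by norm_num) (by norm_num) (by omega), mul_one] at h1
    obtain ⟨k, hk⟩ : ∃ k, n - 1 = 2 * k + 1 := ⟨(n - 2) / 2, by omega⟩
    have h3 : ∀ k, 4 ^ k % 3 = 1 := fun k => by rw [Nat.pow_mod]; simp
    rw [hk, pow_succ, pow_mul] at h1
    have := h3 k
    norm_num at h1
    omega

theorem num_d_ge {n q d m : ℕ} (h : Num n q d m) (hn : 4 ≤ n) : 3 ≤ d := by
  obtain ⟨h1, -, -⟩ | ⟨h1, -, -⟩ := h <;> omega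

theorem num_ne_zero {n q d m : ℕ} (h : Num n q d m) (hn : 4 ≤ n) (hev : n % 2 = 0) (hq : 2 ≤ q) : m ≠ 0 := by
  rintro rfl
  have := num_odd h hn hev hq
  omega

/-- there is a chosen prime -/
theorem num_exists_prime {n q d m : ℕ} (h : Num n q d m) (hn : 4 ≤ n) (hev : n % 2 = 0) (hq : 2 ≤ q) :
    ∃ r : ℕ, r.Prime ∧ orderOf ((q : ℕ) : ZMod r) = d := by
  have h3 := num_d_ge h hn
  refine Cfsg.Agent.Lib.Zsigmondy.exists_prime_orderOf hq (show 2 ≤ d by omega) (fun h => by omega) ?_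
  rintro ⟨rfl, h6⟩
  obtain ⟨h1, -, h2⟩ | ⟨h1, -, h2⟩ := h
  · norm_num at h2
  · omega

end Cfsg.Agent.H221.CD
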