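import Mathlib
import Cfsg.Agent.H221.CD.Sec
import Cfsg.Agent.H221.CD.Large
import Cfsg.Agent.H221.CS.Fin
import Cfsg.Agent.H364.OrthRow

/-!
# S3677, row `PΩ⁺(2n, q)`, `n` even: the assembly (helper221)
-/

set_option autoImplicit false
set_option linter.unusedSectionVars false

namespace Cfsg.Agent.H221.CD

open Subgroup Cfsg Cfsg.Agent.OrdDiv Cfsg.Agent.H364 Cfsg.Agent.H902 Cfsg.Agent.H902.Names

universe u v

variable {F : Type v} [Field F] [Fintype F] {n p f : ℕ}

/-- transport of the class sizes prime to `p` -/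
theorem index_of {G : Type u} [Group G] [Finite G] {L : Type v} [Group L] [Finite L] (hG : H431.CS.Same G L)
    (hmin : ∀ x : G, x ≠ 1 → (centralizer ({x} : Set G)).index ≠ 1) {p N : ℕ}
    (hL : ∀ x : L, x ≠ 1 → ¬ p ∣ (centralizer ({x} : Set L)).index → (centralizer ({x} : Set L)).index = N)
    (x : G) (hx : x ≠ 1) (hp : ¬ p ∣ (centralizer ({x} : Set G)).index) : (centralizer ({x} : Set G)).index = N := by
  obtain ⟨y, hy⟩ := CS.exists_index hG x
  rw [hy] at hp ⊢
  refine hL y ?_ hp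
  rintro rfl
  apply hmin x hx
  rw [hy, Subgroup.index_eq_one, eq_top_iff]
  intro z _
  rw [Subgroup.mem_centralizer_singleton_iff, mul_one, one_mul]

theorem row_of {G : Type u} [Group G] [Finite G] (hKn : H566.KnownAll.{u}) (hn : 4 ≤ n) (hev : Even n)
    (h : H431.CS.Same G (POmega F (quadFormPlus n F)))
    (hidx : ∀ {p f : ℕ}, p.Prime → Fintype.card F = p ^ f → ∀ x : POmega F (quadFormPlus 4 F), x ≠ 1 →
      ¬ p ∣ (centralizer ({x} : Set (POmega F (quadFormPlus 4 F)))).index →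
      (centralizer ({x} : Set (POmega F (quadFormPlus 4 F)))).index = ((p ^ f) ^ 2 + 1) ^ 2 * ((p ^ f) ^ 6 - 1))
    (hfour : ∀ {p f d m : ℕ} {K : Subgroup G} [K.Normal] {S : Subgroup (G ⧸ K)}, SD G 4 p f d m K S →
      (∀ x : G, x ≠ 1 → ¬ p ∣ (centralizer ({x} : Set G)).index →
        (centralizer ({x} : Set G)).index = ((p ^ f) ^ 2 + 1) ^ 2 * ((p ^ f) ^ 6 - 1)) → IsSimpleGroup G)
    (hsame : ∀ {n p f d m : ℕ} {K : Subgroup G} [K.Normal] {S : Subgroup (G ⧸ K)}, SD G n p f d m K S → 6 ≤ n →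
      ∀ {N : Grp} {X : Art.Sh} {g : ℕ}, IsLie N X p g → OrdDiv.Real N S → Art.Real X p g (Nat.card S) →
      Nat.card S = Nat.card G)
    (hcross : ∀ {n p f d m : ℕ} {K : Subgroup G} [K.Normal] {S : Subgroup (G ⧸ K)}, SD G n p f d m K S → 6 ≤ n →
      ∀ {N : Grp} {X : Art.Sh} {v g : ℕ}, IsLie N X v g → OrdDiv.Real N S → Art.Real X v g (Nat.card S) →
      X ≠ .L 2 → v ≠ p → False) : IsSimpleGroup G := by
  obtain ⟨p, f, hp, hf, hF⟩ := (isPrimePow_nat_iff _).1 (Fintype.isPrimePow_card_of_field (α := F))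
  have hF' : Fintype.card F = p ^ f := hF.symm
  have hY : Art.Real (.D n) p f (Nat.card (POmega F (quadFormPlus n F))) :=
    OrthRow.oplus_real hp hf hF' hn
  obtain ⟨d, m, K, _, S, hS⟩ := exists_sd hKn hp hf hF' hn hev h hY
  have hfin : Finite (POmega F (quadFormPlus n F)) := Nat.finite_of_card_ne_zero hY.M_ne
  rcases Nat.lt_or_ge n 6 with h6 | h6
  · have h4 : n = 4 := by
      obtain ⟨c, hc⟩ := hev
      omega
    subst h4
    refine hfour hS (index_of h ?_ (hidx hp hF'))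
    intro x hx h1
    have h2 := hS.min x hx
    have h3 : 1 ≤ (p ^ f) ^ (2 * (4 - 1)) := Nat.one_le_pow _ _ (by have := hY.q_ge; omega)
    omega
  · have hs := hS.simple
    exact hS.isSimple (final_of hS h6 (hKn S) (fun hN h1 hX => hsame hS h6 hN h1 hX)
      fun hN h1 hX h2 h3 => hcross hS h6 hN h1 hX h2 h3)

end Cfsg.Agent.H221.CD
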